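import Groth.Agent.CohenLib.Exists
import Groth.Agent.CoeffField.Smooth
import Groth.Agent.PSLib.Basic
import Groth.Agent.AdicLib.Basic
import Groth.Agent.EGA41Lib.IntDim
import Groth.Agent.S9455

/-!
The Cohen structure theorem: coefficient rings, surjections from power series, finite injective
normalizations of complete local domains.
-/

namespace Groth.Agent.CohenLib

universe u v

open IsLocalRing

/-- One step of lifting from a Cohen ring across a square-zero surjection killed by a power of `p`. -/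
lemma exists_lift_step (Λ : Type u) [CommRing Λ] [IsDomain Λ] [IsDiscreteValuationRing Λ]
    [IsAdicComplete (maximalIdeal Λ) Λ] {p : ℕ} (hp : p.Prime)
    (hm : maximalIdeal Λ = Ideal.span {(p : Λ)}) {A B : Type u} [CommRing A] [CommRing B]
    (π : A →+* B) (hπ : Function.Surjective π) (hker : RingHom.ker π ^ 2 = ⊥) {N : ℕ} (hN : 1 ≤ N)
    (hpA : (p : A) ^ N = 0) (f : Λ →+* B) : ∃ g : Λ →+* A, π.comp g = f := by
  let Q := Λ ⧸ Ideal.span {((p : Λ) ^ N)}
  have hcA : ((p ^ N : ℕ) : A) = 0 := by rw [Nat.cast_pow]; exact hpA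
  have hcQ : ((p ^ N : ℕ) : Q) = 0 := by
    rw [← map_natCast (Ideal.Quotient.mk _), Nat.cast_pow, Ideal.Quotient.eq_zero_iff_mem]
    exact Ideal.mem_span_singleton_self _
  let gA : ZMod (p ^ N) →+* A := ZMod.castHom (ringChar.dvd hcA) A
  let gQ : ZMod (p ^ N) →+* Q := ZMod.castHom (ringChar.dvd hcQ) Q
  letI : Algebra (ZMod (p ^ N)) Q := gQ.toAlgebra
  letI : Algebra (ZMod (p ^ N)) A := gA.toAlgebra
  have : Algebra.FormallySmooth (ZMod (p ^ N)) Q := S9455.result Λ p hp hm N hN
  let J := RingHom.ker π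
  let e : A ⧸ J ≃+* B := RingHom.quotientKerEquivOfSurjective hπ
  let φ₀ : Q →+* A ⧸ J := Ideal.Quotient.lift _ (e.symm.toRingHom.comp f) (by
    intro x hx
    obtain ⟨c, rfl⟩ := Ideal.mem_span_singleton.1 hx
    rw [map_mul, map_pow, map_natCast, ← map_natCast (Ideal.Quotient.mk J), ← map_pow, hpA, map_zero,
      zero_mul])
  let φ : Q →ₐ[ZMod (p ^ N)] A ⧸ J :=
    { φ₀ with commutes' := fun z =>
        RingHom.congr_fun (RingHom.ext_zmod (φ₀.comp gQ) (algebraMap (ZMod (p ^ N)) (A ⧸ J))) z }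
  let σ := Algebra.FormallySmooth.lift J ⟨2, hker⟩ φ
  refine ⟨σ.toRingHom.comp (Ideal.Quotient.mk _), RingHom.ext fun c => ?_⟩
  have h1 : Ideal.Quotient.mk J (σ (Ideal.Quotient.mk _ c)) = φ (Ideal.Quotient.mk _ c) :=
    Algebra.FormallySmooth.mk_lift J ⟨2, hker⟩ φ _
  have h2 : ∀ a : A, e (Ideal.Quotient.mk J a) = π a := fun a =>
    RingHom.quotientKerEquivOfSurjective_apply_mk hπ a
  show π (σ (Ideal.Quotient.mk _ c)) = f c
  rw [← h2, h1]
  exact e.apply_symm_apply _

/-- A Cohen ring maps to a complete local ring along a given map to the residue field. -/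
lemma exists_coeff_hom (Λ : Type u) [CommRing Λ] [IsDomain Λ] [IsDiscreteValuationRing Λ]
    [IsAdicComplete (maximalIdeal Λ) Λ] {p : ℕ} (hp : p.Prime)
    (hm : maximalIdeal Λ = Ideal.span {(p : Λ)}) {R : Type u} [CommRing R] [IsLocalRing R]
    [IsAdicComplete (maximalIdeal R) R] (hpR : (p : R) ∈ maximalIdeal R)
    (φ : Λ →+* ResidueField R) : ∃ σ : Λ →+* R, (residue R).comp σ = φ := by
  let m := maximalIdeal R
  have step : ∀ (n : ℕ) (f : Λ →+* R ⧸ m ^ (n + 1)), ∃ g : Λ →+* R ⧸ m ^ (n + 2),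
      (Ideal.Quotient.factor (Ideal.pow_le_pow_right (Nat.le_succ (n + 1)))).comp g = f := by
    intro n f
    refine exists_lift_step Λ hp hm _ (Ideal.Quotient.factor_surjective _) ?_ (N := n + 2)
      (by omega) ?_ f
    · rw [Ideal.Quotient.factor_ker, ← Ideal.map_pow, Ideal.map_eq_bot_iff_le_ker, Ideal.mk_ker,
        ← pow_mul]
      exact Ideal.pow_le_pow_right (by omega)
    · rw [← map_natCast (Ideal.Quotient.mk _), ← map_pow, Ideal.Quotient.eq_zero_iff_mem]
      exact Ideal.pow_mem_pow hpR _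
  choose g hg using step
  let e₁ : ResidueField R →+* R ⧸ m ^ (0 + 1) :=
    Ideal.Quotient.factor (le_of_eq (by rw [zero_add, pow_one]))
  let F : (n : ℕ) → (Λ →+* R ⧸ m ^ (n + 1)) := fun n => Nat.rec (e₁.comp φ) (fun k f => g k f) n
  have hF : ∀ {i j : ℕ} (hij : i ≤ j),
      (Ideal.Quotient.factor (Ideal.pow_le_pow_right (Nat.succ_le_succ hij) :
        m ^ (j + 1) ≤ m ^ (i + 1))).comp (F j) = F i := by
    intro i j hij
    induction j, hij using Nat.le_induction with
    | base => exact RingHom.ext fun x => by simp [Ideal.Quotient.factor_eq]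
    | succ j hij ih =>
      rw [← ih]
      conv_rhs => rw [← hg j (F j)]
      rw [← RingHom.comp_assoc, Ideal.Quotient.factor_comp]
  let G : (n : ℕ) → (Λ →+* R ⧸ m ^ n) := fun n =>
    (Ideal.Quotient.factor (Ideal.pow_le_pow_right (Nat.le_succ n))).comp (F n)
  have hG : ∀ {i j : ℕ} (hle : i ≤ j), (Ideal.Quotient.factorPow m hle).comp (G j) = G i := by
    intro i j hle
    show _ = (Ideal.Quotient.factor _).comp (F i)
    rw [← hF hle, ← RingHom.comp_assoc, ← RingHom.comp_assoc, Ideal.Quotient.factor_comp,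
      Ideal.Quotient.factor_comp]
  refine ⟨IsAdicComplete.liftRingHom m G hG, RingHom.ext fun c => ?_⟩
  have h1 := IsAdicComplete.mk_liftRingHom m G hG 1 c
  have h2 : G 1 c = Ideal.Quotient.factor (S := maximalIdeal R) (T := m ^ 1) (pow_one m).ge (φ c) := by
    have h3 := RingHom.congr_fun (hF (Nat.zero_le 1)) c
    have h4 : F 0 c = e₁ (φ c) := rfl
    rw [h4] at h3
    exact h3
  obtain ⟨a, ha⟩ := residue_surjective (φ c)
  rw [h2, ← ha] at h1
  show residue R _ = φ c
  rw [← ha, ← sub_eq_zero, ← map_sub, residue_eq_zero_iff]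
  exact (pow_one m).le ((Ideal.Quotient.eq (I := m ^ 1)).1 (h1.trans (Ideal.Quotient.factor_mk _ a)))

/-- Coefficient rings. -/
theorem exists_coeff_ring (R : Type u) [CommRing R] [IsLocalRing R]
    [IsAdicComplete (maximalIdeal R) R] :
    ∃ (Λ : Type u) (_ : CommRing Λ) (σ : Λ →+* R),
      ((IsField Λ ∧ ∀ p : ℕ, p.Prime → IsUnit (p : R)) ∨ CAlg.IsCohenRing Λ) ∧
        Function.Surjective ((residue R).comp σ) := by
  obtain ⟨p, hp⟩ := CharP.exists (ResidueField R)
  rcases CharP.char_is_prime_or_zero (ResidueField R) p with hpp | hp0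
  · have := Fact.mk hpp
    obtain ⟨Λ, _, _, hΛ, ⟨e⟩⟩ := exists_isCohenRing p (ResidueField R)
    obtain ⟨_, _, hc, q, hq, hm⟩ := hΛ
    have hqR : (q : R) ∈ maximalIdeal R := by
      have h0 : residue Λ (q : Λ) = 0 :=
        (residue_eq_zero_iff _).2 (hm ▸ Ideal.mem_span_singleton_self _)
      rw [map_natCast] at h0
      have h1 := congrArg e h0
      rw [map_natCast, map_zero] at h1
      rw [← residue_eq_zero_iff, map_natCast]
      exact h1
    obtain ⟨σ, hσ⟩ := exists_coeff_hom Λ hq hm hqR (e.toRingHom.comp (residue Λ))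
    refine ⟨Λ, inferInstance, σ, .inr ⟨inferInstance, inferInstance, hc, q, hq, hm⟩, ?_⟩
    rw [hσ]
    exact e.surjective.comp residue_surjective
  · subst hp0
    have := CharP.charP_to_charZero (ResidueField R)
    have hunit : ∀ n : ℕ, n ≠ 0 → IsUnit (n : R) := fun n hn => by
      rw [← residue_ne_zero_iff_isUnit, map_natCast]
      exact_mod_cast hn
    let q : ℤ →+* R := Int.castRingHom R
    have hq : ∀ z : nonZeroDivisors ℤ, IsUnit (q z) := by
      rintro ⟨z, hz⟩
      have hz0 : z ≠ 0 := nonZeroDivisors.ne_zero hz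
      show IsUnit ((z : ℤ) : R)
      rw [← residue_ne_zero_iff_isUnit, map_intCast]
      exact_mod_cast hz0
    let : Algebra ℚ R := (IsLocalization.lift hq).toAlgebra
    let qu : ULift.{u} ℚ →+* R := (algebraMap ℚ R).comp ULift.ringEquiv.toRingHom
    let : Algebra (ULift.{u} ℚ) R := qu.toAlgebra
    obtain ⟨σ, hσ⟩ := CoeffField.exists_ringHom_section ℚ R
    exact ⟨ResidueField R, inferInstance, σ,
      .inl ⟨Field.toIsField _, fun p hp => hunit p hp.ne_zero⟩, fun x => ⟨x, hσ x⟩⟩

/-- Cohen structure theorem. -/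
theorem exists_surjective (R : Type u) [CommRing R] [IsLocalRing R]
    [IsAdicComplete (maximalIdeal R) R] (hfg : (maximalIdeal R).FG) :
    ∃ (Λ : Type u) (_ : CommRing Λ) (n : ℕ) (f : MvPowerSeries (Fin n) Λ →+* R),
      (IsField Λ ∨ CAlg.IsCohenRing Λ) ∧ Function.Surjective f := by
  obtain ⟨Λ, _, σ, hΛ, hσ⟩ := exists_coeff_ring R
  obtain ⟨n, b, hb⟩ := Submodule.fg_iff_exists_fin_generating_family.1 hfg
  have hbm : ∀ i, b i ∈ maximalIdeal R := fun i => hb ▸ Submodule.subset_span ⟨i, rfl⟩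
  letI : Algebra Λ R := σ.toAlgebra
  obtain ⟨ψ, hψ⟩ := PSLib.exists_algHom (R := Λ) (maximalIdeal R) b hbm
  have hmap : (PSLib.vars n Λ).map ψ.toRingHom = maximalIdeal R := by
    rw [PSLib.vars, Ideal.map_span, ← Set.range_comp]
    exact (congrArg (fun t => Ideal.span (Set.range t)) (funext fun i => hψ i)).trans hb
  refine ⟨Λ, inferInstance, n, ψ.toRingHom, hΛ.imp (fun h => h.1) id, ?_⟩
  refine PSLib.surjective_of_first_order ψ.toRingHom (I := PSLib.vars n Λ) (J := maximalIdeal R)
    hfg (IsAdicComplete.le_jacobson_bot _) hmap.le (le_sup_of_le_left hmap.ge) fun r => ?_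
  obtain ⟨c, hc⟩ := hσ (residue R r)
  refine ⟨algebraMap Λ _ c, ?_⟩
  rw [← residue_eq_zero_iff, map_sub, sub_eq_zero]
  show residue R r = residue R (ψ (algebraMap Λ _ c))
  rw [ψ.commutes]
  exact hc.symm

/-! ### Finiteness over complete rings -/

/-- Complete Nakayama. -/
lemma finite_of_complete {P R : Type u} [CommRing P] [IsNoetherianRing P] [CommRing R] [IsLocalRing R]
    [IsNoetherianRing R] (f : P →+* R) (I : Ideal P) [IsAdicComplete I P]
    (hI : I.map f ≤ maximalIdeal R)
    (hfin : ((Ideal.Quotient.mk (I.map f)).comp f).Finite) : f.Finite := by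
  letI : Algebra P R := f.toAlgebra
  have hq : Module.Finite P (R ⧸ I.map f) :=
    RingHom.finite_algebraMap.1 ((IsScalarTower.algebraMap_eq P R (R ⧸ I.map f)).symm ▸ hfin)
  obtain ⟨r, g, hg⟩ := Module.Finite.exists_fin' P (R ⧸ I.map f)
  choose b hb using fun i : Fin r => Ideal.Quotient.mk_surjective (g (Pi.single i 1))
  let G : (Fin r → P) →ₗ[P] R := Fintype.linearCombination P b
  have : IsAdicComplete I (Fin r → P) := AdicLib.isAdicComplete_of_finite I _
  have hH : IsHausdorff I R := ⟨fun x hx => by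
    refine IsHausdorff.haus (I := maximalIdeal R) inferInstance x fun n => ?_
    have := SModEq.zero.1 (hx n)
    rw [Ideal.smul_top_eq_map, Submodule.restrictScalars_mem, Ideal.map_pow] at this
    rw [SModEq.zero, smul_eq_mul, Ideal.mul_top]
    exact Ideal.pow_right_mono hI n this⟩
  refine Module.Finite.of_surjective G (surjective_of_mkQ_comp_surjective (I := I) ?_)
  intro y
  obtain ⟨x, rfl⟩ := Submodule.Quotient.mk_surjective _ y
  obtain ⟨c, hc⟩ := hg (Ideal.Quotient.mk _ x)
  refine ⟨c, ?_⟩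
  rw [LinearMap.comp_apply, Submodule.mkQ_apply, Submodule.Quotient.eq, Ideal.smul_top_eq_map,
    Submodule.restrictScalars_mem]
  show G c - x ∈ I.map f
  rw [← Ideal.Quotient.eq, ← hc]
  have h1 : ((Ideal.Quotient.mkₐ P (I.map f)).toLinearMap ∘ₗ G) = g := by
    refine LinearMap.pi_ext' fun i => LinearMap.ext_ring ?_
    rw [LinearMap.comp_apply, LinearMap.comp_apply, LinearMap.comp_apply, LinearMap.single_apply]
    show Ideal.Quotient.mk _ (G (Pi.single i 1)) = g (Pi.single i 1)
    rw [← hb i]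
    simp [G, Fintype.linearCombination_apply_single]
  exact LinearMap.congr_fun h1 c

/-- An Artinian local quotient whose residue field is hit is finite. -/
lemma finite_quotient_of_pow_le {P R : Type u} [CommRing P] [CommRing R] [IsLocalRing R]
    [IsNoetherianRing R] (f : P →+* R) (hres : Function.Surjective ((residue R).comp f))
    {a : Ideal R} {N : ℕ} (hN : maximalIdeal R ^ N ≤ a) :
    ((Ideal.Quotient.mk a).comp f).Finite := by
  letI : Algebra P R := f.toAlgebra
  obtain ⟨n, b, hb⟩ := Submodule.fg_iff_exists_fin_generating_family.1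
    (IsNoetherian.noetherian (maximalIdeal R))
  let S : Set (R ⧸ a) := Set.range fun i => Ideal.Quotient.mk a (b i)
  have hint : ∀ x ∈ S, IsIntegral P x := by
    rintro _ ⟨i, rfl⟩
    refine IsIntegral.of_pow (n := N + 1) (Nat.succ_pos N) ?_
    rw [← map_pow, Ideal.Quotient.eq_zero_iff_mem.2]
    · exact isIntegral_zero
    · exact hN (Ideal.pow_le_pow_right (Nat.le_succ N)
        (Ideal.pow_mem_pow (hb ▸ Submodule.subset_span ⟨i, rfl⟩) _))
  let A := Algebra.adjoin P S
  have key : ∀ (j : ℕ) (x : R), ∃ y : R, Ideal.Quotient.mk a y ∈ A ∧ x - y ∈ maximalIdeal R ^ j := by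
    intro j
    induction j with
    | zero => exact fun x => ⟨0, by simp, by simp⟩
    | succ j ih =>
      intro x
      obtain ⟨c, hc⟩ := hres (residue R x)
      have hx : x - f c ∈ Ideal.span (Set.range b) := by
        rw [Ideal.span, hb, ← residue_eq_zero_iff, map_sub, sub_eq_zero]
        exact hc.symm
      obtain ⟨w, hw⟩ := Ideal.mem_span_range_iff_exists_fun.1 hx
      choose y hy hy' using fun i => ih (w i)
      refine ⟨f c + ∑ i, y i * b i, ?_, ?_⟩
      · rw [map_add, map_sum]
        refine add_mem (A.algebraMap_mem c) (sum_mem fun i _ => ?_)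
        rw [map_mul]
        exact mul_mem (hy i) (Algebra.subset_adjoin ⟨i, rfl⟩)
      · have e : x - (f c + ∑ i, y i * b i) = ∑ i, (w i - y i) * b i := by
          rw [← sub_sub, ← hw, ← Finset.sum_sub_distrib]
          exact Finset.sum_congr rfl fun i _ => by ring
        rw [e, pow_succ]
        exact Ideal.sum_mem _ fun i _ => Ideal.mul_mem_mul (hy' i) (hb ▸ Submodule.subset_span ⟨i, rfl⟩)
  have htop : A = ⊤ := eq_top_iff.2 fun z _ => by
    obtain ⟨x, rfl⟩ := Ideal.Quotient.mk_surjective z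
    obtain ⟨y, hy, hxy⟩ := key N x
    rwa [Ideal.Quotient.eq.2 (hN hxy)]
  have hfg := fg_adjoin_of_finite (Set.finite_range _) hint
  rw [show Algebra.adjoin P S = ⊤ from htop, Algebra.top_toSubmodule] at hfg
  show RingHom.Finite (algebraMap P (R ⧸ a))
  exact RingHom.finite_algebraMap.2 ⟨hfg⟩

/-- A power series normalization, finite. -/
lemma exists_finite_hom {Λ R : Type u} [CommRing Λ] [IsNoetherianRing Λ] [CommRing R] [IsLocalRing R]
    [IsNoetherianRing R] [IsAdicComplete (maximalIdeal R) R] (σ : Λ →+* R)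
    (hσ : Function.Surjective ((residue R).comp σ)) (I₀ : Ideal Λ) [IsAdicComplete I₀ Λ]
    (hI₀ : I₀.map σ ≤ maximalIdeal R) {n : ℕ} (s : Fin n → R) (hs : ∀ i, s i ∈ maximalIdeal R)
    (hrad : maximalIdeal R ≤ (I₀.map σ ⊔ Ideal.span (Set.range s)).radical) :
    ∃ f : MvPowerSeries (Fin n) Λ →+* R, f.Finite ∧
      Function.Surjective ((residue R).comp f) := by
  letI : Algebra Λ R := σ.toAlgebra
  obtain ⟨ψ, hψ⟩ := PSLib.exists_algHom (R := Λ) (maximalIdeal R) s hs
  have hcomm : ∀ c, ψ.toRingHom (algebraMap Λ _ c) = σ c := fun c => ψ.commutes c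
  refine ⟨ψ.toRingHom, ?_, fun x => ?_⟩
  swap
  · obtain ⟨c, hc⟩ := hσ x
    exact ⟨algebraMap Λ _ c, by rw [RingHom.comp_apply, hcomm]; exact hc⟩
  let J : Ideal R := Ideal.span (Set.range s)
  have hJ : J ≤ maximalIdeal R := Ideal.span_le.2 (Set.range_subset_iff.2 hs)
  have hmap : (PSLib.vars n Λ).map ψ.toRingHom = J := by
    rw [PSLib.vars, Ideal.map_span, ← Set.range_comp]
    exact congrArg (fun t => Ideal.span (Set.range t)) (funext fun i => hψ i)
  refine finite_of_complete ψ.toRingHom (PSLib.vars n Λ) (hmap.le.trans hJ) ?_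
  rw [hmap]
  -- `R ⧸ J` is finite over `Λ`
  have : Nontrivial (R ⧸ J) :=
    Ideal.Quotient.nontrivial_iff.2 fun h => (maximalIdeal.isMaximal R).ne_top (top_unique (h ▸ hJ))
  have : IsLocalRing (R ⧸ J) := .of_surjective' _ Ideal.Quotient.mk_surjective
  have hloc : IsLocalHom (Ideal.Quotient.mk J) :=
    .of_surjective _ Ideal.Quotient.mk_surjective
  have h2 : ((Ideal.Quotient.mk J).comp σ).Finite := by
    have hI : I₀.map ((Ideal.Quotient.mk J).comp σ) ≤ maximalIdeal (R ⧸ J) := by
      rw [← Ideal.map_map, Ideal.map_le_iff_le_comap]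
      intro x hx
      rw [Ideal.mem_comap, mem_maximalIdeal, mem_nonunits_iff]
      exact fun hu => (mem_maximalIdeal _).1 (hI₀ hx) (isUnit_of_map_unit _ _ hu)
    refine finite_of_complete ((Ideal.Quotient.mk J).comp σ) I₀ hI ?_
    obtain ⟨N, hN⟩ := Ideal.exists_pow_le_of_le_radical_of_fg hrad
      (IsNoetherian.noetherian _)
    have hfa := finite_quotient_of_pow_le σ hσ hN
    let a : Ideal R := I₀.map σ ⊔ J
    let b : Ideal (R ⧸ J) := I₀.map ((Ideal.Quotient.mk J).comp σ)
    have hle : ∀ x ∈ a, ((Ideal.Quotient.mk b).comp (Ideal.Quotient.mk J)) x = 0 := by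
      intro x hx
      obtain ⟨y, hy, z, hz, rfl⟩ := Submodule.mem_sup.1 hx
      rw [RingHom.comp_apply, map_add, Ideal.Quotient.eq_zero_iff_mem.2 hz, add_zero,
        Ideal.Quotient.eq_zero_iff_mem]
      show _ ∈ I₀.map ((Ideal.Quotient.mk J).comp σ)
      rw [← Ideal.map_map]
      exact Ideal.mem_map_of_mem _ hy
    let π : R ⧸ a →+* (R ⧸ J) ⧸ b := Ideal.Quotient.lift a _ hle
    have hπ : Function.Surjective π := Ideal.Quotient.lift_surjective_of_surjective _ _
      (Ideal.Quotient.mk_surjective.comp Ideal.Quotient.mk_surjective)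
    exact (RingHom.Finite.of_surjective π hπ).comp hfa
  have h3 : ((Ideal.Quotient.mk J).comp ψ.toRingHom).comp (algebraMap Λ _) =
      (Ideal.Quotient.mk J).comp σ := RingHom.ext fun c => by
    simp only [RingHom.comp_apply, hcomm]
  exact RingHom.Finite.of_comp_finite (h3 ▸ h2)

lemma exists_fin_sop (S : Type u) [CommRing S] [IsLocalRing S] [IsNoetherianRing S] :
    ∃ (e : ℕ) (t : Fin e → S), (∀ i, t i ∈ maximalIdeal S) ∧ ringKrullDim S = e ∧
      maximalIdeal S ≤ (Ideal.span (Set.range t)).radical := by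
  obtain ⟨s, hs, hc⟩ := (maximalIdeal S).exists_finset_card_eq_height_of_isNoetherianRing
  refine ⟨s.card, fun i => (s.equivFin.symm i).1, fun i => hs.1.2 (Ideal.subset_span (s.equivFin.symm i).2),
    ?_, ?_⟩
  · rw [← IsLocalRing.maximalIdeal_height_eq_ringKrullDim, ← hc]
    rfl
  · have hrange : Set.range (fun i => (s.equivFin.symm i).1) = (s : Set S) := by
      ext x
      exact ⟨fun ⟨i, hi⟩ => hi ▸ (s.equivFin.symm i).2, fun hx => ⟨s.equivFin ⟨x, hx⟩, by simp⟩⟩
    rw [hrange, Ideal.radical_eq_sInf]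
    refine le_sInf ?_
    rintro q ⟨hq, hqp⟩
    exact hs.2 ⟨hqp, hq⟩ (IsLocalRing.le_maximalIdeal hqp.ne_top)

lemma isLocalRing_mvPowerSeries_dim_le {Λ : Type u} [CommRing Λ] [IsNoetherianRing Λ] [IsLocalRing Λ]
    (n e : ℕ) (he : (maximalIdeal Λ).spanFinrank ≤ e) :
    ringKrullDim (MvPowerSeries (Fin n) Λ) ≤ (n + e : ℕ) := by
  classical
  refine (ringKrullDim_le_spanFinrank_maximalIdeal _).trans ?_
  obtain ⟨s, hsc, hs⟩ := Submodule.FG.exists_span_finset_card_eq_spanFinrank
    (IsNoetherian.noetherian (maximalIdeal Λ))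
  let T : Finset (MvPowerSeries (Fin n) Λ) :=
    Finset.univ.image MvPowerSeries.X ∪ s.image MvPowerSeries.C
  have hT : maximalIdeal (MvPowerSeries (Fin n) Λ) ≤ Ideal.span (T : Set (MvPowerSeries (Fin n) Λ)) := by
    intro f hf
    rw [mem_maximalIdeal, mem_nonunits_iff, MvPowerSeries.isUnit_iff_constantCoeff,
      ← mem_nonunits_iff, ← mem_maximalIdeal] at hf
    have e1 : f - MvPowerSeries.C (MvPowerSeries.constantCoeff f) ∈ PSLib.vars n Λ :=
      PSLib.mem_vars_iff.2 (by simp)
    have e2 : PSLib.vars n Λ ≤ Ideal.span (T : Set (MvPowerSeries (Fin n) Λ)) :=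
      Ideal.span_mono (by rintro _ ⟨i, rfl⟩; exact Finset.mem_union_left _ (Finset.mem_image_of_mem _ (Finset.mem_univ i)))
    have e3 : MvPowerSeries.C (MvPowerSeries.constantCoeff f) ∈ Ideal.span (T : Set (MvPowerSeries (Fin n) Λ)) := by
      have hs' : Ideal.span (s : Set Λ) = maximalIdeal Λ := hs
      rw [← hs'] at hf
      have := Ideal.mem_map_of_mem (MvPowerSeries.C (σ := Fin n)) hf
      rw [Ideal.map_span] at this
      exact Ideal.span_mono (by rintro _ ⟨x, hx, rfl⟩; exact Finset.mem_union_right _ (Finset.mem_image_of_mem _ hx)) this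
    simpa using add_mem (e2 e1) e3
  have hle : maximalIdeal (MvPowerSeries (Fin n) Λ) = Ideal.span (T : Set (MvPowerSeries (Fin n) Λ)) := by
    refine le_antisymm hT (Ideal.span_le.2 fun x hx => ?_)
    rw [SetLike.mem_coe, mem_maximalIdeal, mem_nonunits_iff, MvPowerSeries.isUnit_iff_constantCoeff,
      ← mem_nonunits_iff, ← mem_maximalIdeal]
    simp only [T, Finset.coe_union, Finset.coe_image, Set.mem_union, Set.mem_image] at hx
    rcases hx with ⟨i, -, rfl⟩ | ⟨c, hc, rfl⟩
    · simp
    · rw [MvPowerSeries.constantCoeff_C, ← hs]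
      exact Submodule.subset_span hc
  rw [hle]
  refine Nat.cast_le.2 ((Submodule.spanFinrank_span_le_ncard_of_finite T.finite_toSet).trans ?_)
  rw [Set.ncard_coe_finset]
  refine (Finset.card_union_le _ _).trans (add_le_add ?_ ?_)
  · exact Finset.card_image_le.trans (by simp)
  · exact Finset.card_image_le.trans (hsc.trans_le he)

lemma injective_of_finite {P R : Type u} [CommRing P] [IsDomain P] [CommRing R]
    (f : P →+* R) (hf : f.Finite) {d : ℕ} (hR : ringKrullDim R = d) (hP : ringKrullDim P ≤ d) :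
    Function.Injective f := by
  rw [RingHom.injective_iff_ker_eq_bot]
  by_contra hne
  obtain ⟨r, hr, hr0⟩ := Submodule.exists_mem_ne_zero_of_ne_bot hne
  letI : Algebra (P ⧸ RingHom.ker f) R := f.kerLift.toAlgebra
  have hfin : f.kerLift.Finite :=
    RingHom.Finite.of_comp_finite (f := Ideal.Quotient.mk (RingHom.ker f)) hf
  have : Module.Finite (P ⧸ RingHom.ker f) R := hfin
  have : Algebra.IsIntegral (P ⧸ RingHom.ker f) R := Algebra.IsIntegral.of_finite _ _
  have h1 := EGA41Lib.ringKrullDim_eq_of_integral (A := P ⧸ RingHom.ker f) (B := R)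
    f.kerLift_injective
  have h2 := ringKrullDim_succ_le_of_surjective (Ideal.Quotient.mk (RingHom.ker f))
    Ideal.Quotient.mk_surjective (mem_nonZeroDivisors_of_ne_zero hr0)
    (Ideal.Quotient.eq_zero_iff_mem.2 hr)
  rw [← h1, hR] at h2
  have h3 := h2.trans hP
  rw [show ((d : WithBot ℕ∞) + 1) = ((d + 1 : ℕ) : WithBot ℕ∞) by push_cast; rfl, Nat.cast_le] at h3
  omega

/-- Normalization of complete local domains. -/
theorem exists_finite_injective (R : Type u) [CommRing R] [IsDomain R] [IsLocalRing R]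
    [IsNoetherianRing R] [IsAdicComplete (maximalIdeal R) R] :
    ∃ (Λ : Type u) (_ : CommRing Λ) (n : ℕ) (f : MvPowerSeries (Fin n) Λ →+* R),
      (IsField Λ ∨ CAlg.IsCohenRing Λ) ∧ Function.Injective f ∧ f.Finite ∧
      Function.Surjective ((residue R).comp f) := by
  classical
  -- the case of a coefficient field
  have fieldCase : ∀ (K : Type u) [Field K] (σ : K →+* R), Function.Surjective ((residue R).comp σ) →
      ∃ (Λ : Type u) (_ : CommRing Λ) (n : ℕ) (f : MvPowerSeries (Fin n) Λ →+* R),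
        (IsField Λ ∨ CAlg.IsCohenRing Λ) ∧ Function.Injective f ∧ f.Finite ∧
        Function.Surjective ((residue R).comp f) := by
    intro K _ σ hσ
    obtain ⟨e, t, ht, hdim, hrad⟩ := exists_fin_sop R
    obtain ⟨f, hf, hres⟩ := exists_finite_hom σ hσ ⊥ (by rw [Ideal.map_bot]; exact bot_le) t ht
      (hrad.trans (Ideal.radical_mono le_sup_right))
    have : IsDomain (MvPowerSeries (Fin e) K) := NoZeroDivisors.to_isDomain _
    refine ⟨K, inferInstance, e, f, .inl (Field.toIsField K),
      injective_of_finite f hf hdim ?_, hf, hres⟩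
    have h0 : maximalIdeal K = ⊥ := (IsLocalRing.isField_iff_maximalIdeal_eq.1 (Field.toIsField K))
    exact isLocalRing_mvPowerSeries_dim_le (Λ := K) e 0 (by
      rw [h0, ← Ideal.span_empty]
      exact (Submodule.spanFinrank_span_le_ncard_of_finite Set.finite_empty).trans (by simp))
  obtain ⟨Λ, _, σ, hΛ, hσ⟩ := exists_coeff_ring R
  rcases hΛ with ⟨hF, -⟩ | hC
  · let := hF.toField
    exact fieldCase Λ σ hσ
  obtain ⟨_, _, hc, p, hp, hm⟩ := hC
  by_cases hp0 : (p : R) = 0
  · -- equal characteristic `p`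
    have := Fact.mk hp
    have hchar : CharP R p := by
      have h1 : ringChar R ∣ p := ringChar.dvd hp0
      rcases (Nat.dvd_prime hp).1 h1 with h | h
      · exact absurd (CharP.ringChar_ne_one (R := R)) (by simp [h])
      · exact ringChar.of_eq h
    let qu : ULift.{u} (ZMod p) →+* R := (ZMod.castHom dvd_rfl R).comp ULift.ringEquiv.toRingHom
    let : Algebra (ZMod p) R := (ZMod.castHom dvd_rfl R).toAlgebra
    obtain ⟨τ, hτ⟩ := CoeffField.exists_ringHom_section (ZMod p) R
    exact fieldCase (ResidueField R) τ fun x => ⟨x, hτ x⟩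
  · -- mixed characteristic
    have hpΛ : (p : Λ) ∈ maximalIdeal Λ := hm ▸ Ideal.mem_span_singleton_self _
    have hmap : (maximalIdeal Λ).map σ = Ideal.span {(p : R)} := by
      rw [hm, Ideal.map_span, Set.image_singleton, map_natCast]
    have hpR : (p : R) ∈ maximalIdeal R := by
      -- the residue characteristic is `p`
      by_contra hnot
      have hu : residue R (σ (p : Λ)) ≠ 0 := by
        rwa [map_natCast, ne_eq, residue_eq_zero_iff]
      have hsurj : Function.Surjective ((residue R).comp σ) := hσ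
      have hker : RingHom.ker ((residue R).comp σ) = maximalIdeal Λ :=
        IsLocalRing.eq_maximalIdeal (RingHom.ker_isMaximal_of_surjective _ hsurj)
      exact hu (show (residue R).comp σ (p : Λ) = 0 from RingHom.mem_ker.1 (hker ▸ hpΛ))
    let S := R ⧸ Ideal.span {(p : R)}
    have hle : Ideal.span {(p : R)} ≤ maximalIdeal R := (Ideal.span_singleton_le_iff_mem _).2 hpR
    have : Nontrivial S :=
      Ideal.Quotient.nontrivial_iff.2 fun h => (maximalIdeal.isMaximal R).ne_top (top_unique (h ▸ hle))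
    have : IsLocalRing S := .of_surjective' _ Ideal.Quotient.mk_surjective
    obtain ⟨e, t, ht, hdim, hrad⟩ := exists_fin_sop S
    choose s hs using fun i => Ideal.Quotient.mk_surjective (t i)
    have hsm : ∀ i, s i ∈ maximalIdeal R := fun i => (mem_maximalIdeal _).2 fun hu =>
      (mem_maximalIdeal _).1 (ht i) (hs i ▸ hu.map _)
    obtain ⟨f, hf, hres⟩ := exists_finite_hom σ hσ (maximalIdeal Λ) (hmap.le.trans hle) s hsm (by
      intro x hx
      have hx' : Ideal.Quotient.mk (Ideal.span {(p : R)}) x ∈ maximalIdeal S := by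
        rw [← IsLocalRing.eq_maximalIdeal ((maximalIdeal.isMaximal R).map_of_surjective_of_ker_le
          (f := Ideal.Quotient.mk (Ideal.span {(p : R)}))
          Ideal.Quotient.mk_surjective (Ideal.mk_ker.le.trans hle))]
        exact Ideal.mem_map_of_mem _ hx
      obtain ⟨N, hN⟩ := hrad hx'
      refine ⟨N, ?_⟩
      rw [hmap, sup_comm, ← Ideal.mk_ker (I := Ideal.span {(p : R)}),
        ← Ideal.comap_map_of_surjective' _ Ideal.Quotient.mk_surjective, Ideal.mem_comap, map_pow,
        Ideal.map_span, ← Set.range_comp]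
      simpa only [Function.comp_def, hs] using hN)
    refine ⟨Λ, inferInstance, e, f, .inr ⟨inferInstance, inferInstance, hc, p, hp, hm⟩, ?_, hf, hres⟩
    have hd : ∃ d : ℕ, ringKrullDim R = d := by
      obtain ⟨d, _, _, hd, _⟩ := exists_fin_sop R
      exact ⟨d, hd⟩
    obtain ⟨d, hd⟩ := hd
    have hed : e + 1 ≤ d := by
      have := ringKrullDim_quotient_succ_le_of_nonZeroDivisor (mem_nonZeroDivisors_of_ne_zero hp0)
      rw [hdim, hd] at this
      exact_mod_cast this
    have : IsDomain (MvPowerSeries (Fin e) Λ) := NoZeroDivisors.to_isDomain _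
    refine injective_of_finite f hf hd ((isLocalRing_mvPowerSeries_dim_le e 1 ?_).trans (Nat.cast_le.2 hed))
    rw [hm]
    refine (Submodule.spanFinrank_span_le_ncard_of_finite (Set.finite_singleton _)).trans ?_
    simp

end Groth.Agent.CohenLib
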