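import Groth.Agent.CohenLib.Structure
import Groth.Agent.PSLib.Regular

/-!
Power series over a complete local ring: complete for the maximal ideal, regular over fields and Cohen rings.
-/

namespace Groth.Agent.CohenLib

universe u

open IsLocalRing

variable {Λ : Type u} [CommRing Λ] [IsLocalRing Λ] {n : ℕ}

lemma mem_maximalIdeal_mvPowerSeries_iff {f : MvPowerSeries (Fin n) Λ} :
    f ∈ maximalIdeal (MvPowerSeries (Fin n) Λ) ↔ MvPowerSeries.constantCoeff f ∈ maximalIdeal Λ := by
  rw [mem_maximalIdeal, mem_nonunits_iff, MvPowerSeries.isUnit_iff_constantCoeff, ← mem_nonunits_iff,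
    ← mem_maximalIdeal]

lemma coeff_mem_of_mem_pow (N : ℕ) : ∀ f ∈ maximalIdeal (MvPowerSeries (Fin n) Λ) ^ N,
    ∀ d : Fin n →₀ ℕ, MvPowerSeries.coeff d f ∈ maximalIdeal Λ ^ (N - Finsupp.degree d) := by
  classical
  induction N with
  | zero => intro f _ d; simp
  | succ N ih =>
    intro f hf d
    rw [pow_succ'] at hf
    revert d
    refine Submodule.mul_induction_on hf (fun g hg h hh d => ?_) (fun g h hg hh d => ?_)
    · rw [MvPowerSeries.coeff_mul]
      refine Ideal.sum_mem _ fun ab hab => ?_
      rw [Finset.HasAntidiagonal.mem_antidiagonal] at hab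
      have hdeg : Finsupp.degree ab.1 + Finsupp.degree ab.2 = Finsupp.degree d := by
        rw [← map_add, hab]
      by_cases h1 : ab.1 = 0
      · rw [h1, MvPowerSeries.coeff_zero_eq_constantCoeff_apply]
        have h2 := Ideal.mul_mem_mul (mem_maximalIdeal_mvPowerSeries_iff.1 hg) (ih h hh ab.2)
        rw [← pow_succ'] at h2
        refine Ideal.pow_le_pow_right (show N + 1 - Finsupp.degree d ≤ N - Finsupp.degree ab.2 + 1 from ?_) h2
        rw [h1, map_zero, zero_add] at hdeg
        omega
      · have h3 : 1 ≤ Finsupp.degree ab.1 :=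
          Nat.one_le_iff_ne_zero.2 fun h => h1 ((Finsupp.degree_eq_zero_iff _).1 h)
        exact Ideal.pow_le_pow_right (show N + 1 - Finsupp.degree d ≤ N - Finsupp.degree ab.2 by omega)
          (Ideal.mul_mem_left _ _ (ih h hh ab.2))
    · rw [map_add]; exact add_mem (hg d) (hh d)

lemma mem_pow_of_coeff_mem {N : ℕ} {f : MvPowerSeries (Fin n) Λ}
    (hf : ∀ d : Fin n →₀ ℕ, Finsupp.degree d < N →
      MvPowerSeries.coeff d f ∈ maximalIdeal Λ ^ (N - Finsupp.degree d)) :
    f ∈ maximalIdeal (MvPowerSeries (Fin n) Λ) ^ N := by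
  classical
  have hvars : PSLib.vars n Λ ≤ maximalIdeal (MvPowerSeries (Fin n) Λ) := fun g hg => by
    rw [mem_maximalIdeal_mvPowerSeries_iff, PSLib.mem_vars_iff.1 hg]; exact zero_mem _
  let t : Finset (Fin n →₀ ℕ) := (MvPowerSeries.truncTotal N f).support
  have hC : (maximalIdeal Λ).map (MvPowerSeries.C (σ := Fin n)) ≤ maximalIdeal (MvPowerSeries (Fin n) Λ) :=
    Ideal.map_le_iff_le_comap.2 fun c hc => by
      rw [Ideal.mem_comap, mem_maximalIdeal_mvPowerSeries_iff, MvPowerSeries.constantCoeff_C]; exact hc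
  let P : MvPowerSeries (Fin n) Λ := ↑(MvPowerSeries.truncTotal N f)
  have hsub : f - P ∈ PSLib.vars n Λ ^ N := PSLib.mem_pow_iff.2 fun d hd => by
    rw [map_sub, MvPolynomial.coeff_coe, MvPowerSeries.coeff_truncTotal _ hd, sub_self]
  have hP : P ∈ maximalIdeal (MvPowerSeries (Fin n) Λ) ^ N := by
    show MvPolynomial.coeToMvPowerSeries.ringHom (MvPowerSeries.truncTotal N f) ∈ _
    rw [MvPolynomial.as_sum (MvPowerSeries.truncTotal N f), map_sum]
    refine Ideal.sum_mem _ fun d hd => ?_
    rw [MvPolynomial.mem_support_iff, MvPowerSeries.coeff_truncTotal_eq_ite] at hd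
    have hdN : Finsupp.degree d < N := by
      by_contra h
      exact hd (if_neg h)
    rw [MvPowerSeries.coeff_truncTotal _ hdN]
    show (MvPolynomial.monomial d (MvPowerSeries.coeff d f) : MvPowerSeries (Fin n) Λ) ∈ _
    have e : MvPowerSeries.monomial d (MvPowerSeries.coeff d f) =
        MvPowerSeries.monomial (0 : Fin n →₀ ℕ) (MvPowerSeries.coeff d f) * MvPowerSeries.monomial d 1 := by
      rw [MvPowerSeries.monomial_mul_monomial, zero_add, mul_one]
    rw [MvPolynomial.coe_monomial, e]
    have h1 : (MvPowerSeries.monomial (0 : Fin n →₀ ℕ) (MvPowerSeries.coeff d f)) ∈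
        maximalIdeal (MvPowerSeries (Fin n) Λ) ^ (N - Finsupp.degree d) := by
      rw [MvPowerSeries.monomial_zero_eq_C_apply]
      refine Ideal.pow_right_mono hC _ ?_
      rw [← Ideal.map_pow]
      exact Ideal.mem_map_of_mem _ (hf d hdN)
    have h2 : (MvPowerSeries.monomial d (1 : Λ)) ∈ maximalIdeal (MvPowerSeries (Fin n) Λ) ^ Finsupp.degree d := by
      refine Ideal.pow_right_mono hvars _ (PSLib.mem_pow_iff.2 fun e he => ?_)
      rw [MvPowerSeries.coeff_monomial, if_neg]
      rintro rfl
      exact lt_irrefl _ he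
    have h3 := Ideal.mul_mem_mul h1 h2
    rw [← pow_add, Nat.sub_add_cancel hdN.le] at h3
    exact h3
  simpa using add_mem hP (Ideal.pow_right_mono hvars N hsub)

variable [IsNoetherianRing Λ]

theorem isAdicComplete_mvPowerSeries [IsAdicComplete (maximalIdeal Λ) Λ] :
    IsAdicComplete (maximalIdeal (MvPowerSeries (Fin n) Λ)) (MvPowerSeries (Fin n) Λ) := by
  have hpre : IsPrecomplete (maximalIdeal (MvPowerSeries (Fin n) Λ)) (MvPowerSeries (Fin n) Λ) := by
    refine ⟨fun a ha => ?_⟩
    have key : ∀ d : Fin n →₀ ℕ, ∃ L : Λ, ∀ j : ℕ,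
        MvPowerSeries.coeff d (a (j + Finsupp.degree d)) - L ∈ maximalIdeal Λ ^ j := by
      intro d
      obtain ⟨L, hL⟩ := IsPrecomplete.prec (inferInstance : IsPrecomplete (maximalIdeal Λ) Λ)
        (f := fun j => MvPowerSeries.coeff d (a (j + Finsupp.degree d))) (fun {i j} hij => by
          rw [SModEq.sub_mem, smul_eq_mul, Ideal.mul_top, ← map_sub]
          have h := ha (show i + Finsupp.degree d ≤ j + Finsupp.degree d by omega)
          rw [SModEq.sub_mem, smul_eq_mul, Ideal.mul_top] at h
          simpa using coeff_mem_of_mem_pow _ _ h d)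
      refine ⟨L, fun j => ?_⟩
      have h := hL j
      rwa [SModEq.sub_mem, smul_eq_mul, Ideal.mul_top] at h
    choose L hL using key
    refine ⟨L, fun N => ?_⟩
    rw [SModEq.sub_mem, smul_eq_mul, Ideal.mul_top]
    refine mem_pow_of_coeff_mem fun d hd => ?_
    rw [map_sub, MvPowerSeries.coeff_apply L d]
    have h := hL d (N - Finsupp.degree d)
    rwa [Nat.sub_add_cancel hd.le] at h
  exact { toIsHausdorff := inferInstance, toIsPrecomplete := hpre }

/-- Power series over a field or a Cohen ring: Noetherian complete regular local. -/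
theorem isRegular_complete_mvPowerSeries {Λ : Type u} [CommRing Λ] (hΛ : IsField Λ ∨ CAlg.IsCohenRing Λ) (n : ℕ) :
    IsNoetherianRing (MvPowerSeries (Fin n) Λ) ∧
      ∃ _ : IsRegularLocalRing (MvPowerSeries (Fin n) Λ),
        IsAdicComplete (maximalIdeal (MvPowerSeries (Fin n) Λ)) (MvPowerSeries (Fin n) Λ) := by
  classical
  rcases hΛ with hF | hC
  · let := hF.toField
    have hreg := PSLib.isRegularLocalRing Λ n
    have h0 : maximalIdeal Λ = ⊥ := IsLocalRing.isField_iff_maximalIdeal_eq.1 hF
    have : IsAdicComplete (maximalIdeal Λ) Λ := by rw [h0]; infer_instance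
    exact ⟨inferInstance, hreg, isAdicComplete_mvPowerSeries⟩
  · obtain ⟨_, _, hc, p, hp, hm⟩ := hC
    have hspan : (maximalIdeal Λ).spanFinrank ≤ 1 := by
      rw [hm]
      refine (Submodule.spanFinrank_span_le_ncard_of_finite (Set.finite_singleton _)).trans ?_
      simp
    have hle := isLocalRing_mvPowerSeries_dim_le (Λ := Λ) n 1 hspan
    have hge : ((n + 1 : ℕ) : WithBot ℕ∞) ≤ ringKrullDim (MvPowerSeries (Fin n) Λ) := by
      have hsurj : Function.Surjective (MvPowerSeries.map (σ := Fin n) (residue Λ)) := by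
        intro g
        choose c hc using fun d => residue_surjective (MvPowerSeries.coeff d g)
        exact ⟨c, MvPowerSeries.ext fun d => by rw [MvPowerSeries.coeff_map]; exact hc d⟩
      have : IsDomain (MvPowerSeries (Fin n) Λ) := NoZeroDivisors.to_isDomain _
      have hp0 : (MvPowerSeries.C (σ := Fin n) (p : Λ)) ≠ 0 := fun h => by
        have h1 := congrArg MvPowerSeries.constantCoeff h
        rw [MvPowerSeries.constantCoeff_C, map_zero] at h1
        exact IsDiscreteValuationRing.not_a_field Λ (by rw [hm, h1]; exact Ideal.span_singleton_eq_bot.2 rfl)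
      have h1 := ringKrullDim_succ_le_of_surjective (MvPowerSeries.map (σ := Fin n) (residue Λ)) hsurj
        (mem_nonZeroDivisors_of_ne_zero hp0) (by
          rw [MvPowerSeries.map_C, (residue_eq_zero_iff _).2 (hm ▸ Ideal.mem_span_singleton_self _), map_zero])
      rw [PSLib.ringKrullDim_eq] at h1
      exact_mod_cast h1
    have hsf : (maximalIdeal (MvPowerSeries (Fin n) Λ)).spanFinrank ≤ n + 1 := by
      obtain ⟨s, hsc, hs⟩ := Submodule.FG.exists_span_finset_card_eq_spanFinrank
        (IsNoetherian.noetherian (maximalIdeal Λ))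
      let T : Finset (MvPowerSeries (Fin n) Λ) :=
        Finset.univ.image MvPowerSeries.X ∪ {MvPowerSeries.C (p : Λ)}
      have hT : maximalIdeal (MvPowerSeries (Fin n) Λ) = Ideal.span (T : Set (MvPowerSeries (Fin n) Λ)) := by
        refine le_antisymm (fun f hf => ?_) (Ideal.span_le.2 fun x hx => ?_)
        · rw [mem_maximalIdeal_mvPowerSeries_iff, hm, Ideal.mem_span_singleton'] at hf
          obtain ⟨c, hc⟩ := hf
          have e1 : f - MvPowerSeries.C (MvPowerSeries.constantCoeff f) ∈ PSLib.vars n Λ :=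
            PSLib.mem_vars_iff.2 (by simp)
          have e2 : PSLib.vars n Λ ≤ Ideal.span (T : Set (MvPowerSeries (Fin n) Λ)) :=
            Ideal.span_mono (by rintro _ ⟨i, rfl⟩; simp [T])
          have e3 : MvPowerSeries.C (MvPowerSeries.constantCoeff f) ∈ Ideal.span (T : Set (MvPowerSeries (Fin n) Λ)) := by
            rw [← hc, map_mul]
            exact Ideal.mul_mem_left _ _ (Ideal.subset_span (by simp [T]))
          simpa using add_mem (e2 e1) e3
        · rw [SetLike.mem_coe, mem_maximalIdeal_mvPowerSeries_iff]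
          simp only [T, Finset.coe_union, Finset.coe_image, Finset.coe_singleton, Set.mem_union, Set.mem_image,
            Set.mem_singleton_iff] at hx
          rcases hx with ⟨i, -, rfl⟩ | rfl
          · simp
          · rw [MvPowerSeries.constantCoeff_C, hm]; exact Ideal.mem_span_singleton_self _
      rw [hT]
      refine (Submodule.spanFinrank_span_le_ncard_of_finite T.finite_toSet).trans ?_
      rw [Set.ncard_coe_finset]
      exact (Finset.card_union_le _ _).trans (add_le_add (Finset.card_image_le.trans (by simp)) (by simp))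
    exact ⟨inferInstance, IsRegularLocalRing.of_spanFinrank_maximalIdeal_le _
      ((Nat.cast_le.2 hsf).trans hge), isAdicComplete_mvPowerSeries⟩

end Groth.Agent.CohenLib
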