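import Mathlib
import Groth.Prelude.Def_Found

/-!
Cohen rings exist for every residue field of characteristic `p`: take a maximal `p`-saturated
subring of a valuation ring of an algebraically closed field of characteristic zero.
-/

namespace Groth.Agent.CohenLib

universe u

open Polynomial IsLocalRing

section Sub

variable {O : Type u} [CommRing O] [IsLocalRing O]

/-- Every nonzero element of `T` is a power of `p` times an element of `T` that is a unit of `O`. -/
def IsSat (p : ℕ) (T : Subring O) : Prop :=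
  ∀ s ∈ T, s ≠ 0 → ∃ (n : ℕ) (t : O), t ∈ T ∧ IsUnit t ∧ s = (p : O) ^ n * t

/-- The fractions `f / g` with `f g ∈ T` and `g` a unit of `O`. -/
def fracSub (T : Subring O) : Subring O where
  carrier := {a | ∃ f g, f ∈ T ∧ g ∈ T ∧ IsUnit g ∧ a * g = f}
  one_mem' := ⟨1, 1, T.one_mem, T.one_mem, isUnit_one, one_mul 1⟩
  zero_mem' := ⟨0, 1, T.zero_mem, T.one_mem, isUnit_one, zero_mul 1⟩
  mul_mem' := by
    rintro a b ⟨f, g, hf, hg, hug, h⟩ ⟨f', g', hf', hg', hug', h'⟩
    exact ⟨f * f', g * g', T.mul_mem hf hf', T.mul_mem hg hg', hug.mul hug', by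
      rw [← h, ← h']; ring⟩
  add_mem' := by
    rintro a b ⟨f, g, hf, hg, hug, h⟩ ⟨f', g', hf', hg', hug', h'⟩
    exact ⟨f * g' + f' * g, g * g', T.add_mem (T.mul_mem hf hg') (T.mul_mem hf' hg),
      T.mul_mem hg hg', hug.mul hug', by rw [← h, ← h']; ring⟩
  neg_mem' := by
    rintro a ⟨f, g, hf, hg, hug, h⟩
    exact ⟨-f, g, T.neg_mem hf, hg, hug, by rw [← h]; ring⟩

lemma le_fracSub (T : Subring O) : T ≤ fracSub T :=
  fun t ht => ⟨t, 1, ht, T.one_mem, isUnit_one, mul_one t⟩

lemma exists_inv_fracSub (T : Subring O) {a : O} (ha : a ∈ fracSub T) (hu : IsUnit a) :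
    ∃ b ∈ fracSub T, a * b = 1 := by
  obtain ⟨f, g, hf, hg, hug, h⟩ := ha
  obtain ⟨b, hb⟩ := hu.exists_right_inv
  exact ⟨b, ⟨g, f, hg, hf, h ▸ hu.mul hug, by rw [← h, ← mul_assoc, mul_comm b, hb, one_mul]⟩, hb⟩

lemma isSat_fracSub {p : ℕ} {T : Subring O} (hT : IsSat p T) : IsSat p (fracSub T) := by
  rintro a ⟨f, g, hf, hg, hug, h⟩ ha
  have hf0 : f ≠ 0 := by
    rw [← h]
    exact fun h0 => ha (by simpa using (hug.mul_left_eq_zero).1 h0)
  obtain ⟨n, t, ht, hut, hn⟩ := hT f hf hf0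
  obtain ⟨g', hg'⟩ := hug.exists_right_inv
  refine ⟨n, t * g', ⟨t, g, ht, hg, hug, by rw [mul_assoc, mul_comm g', hg', mul_one]⟩,
    hut.mul (IsUnit.of_mul_eq_one g (by rw [mul_comm, hg'])), ?_⟩
  rw [← mul_assoc, ← hn, ← h, mul_assoc, hg', mul_one]

lemma residue_fracSub {T : Subring O} (K : Subfield (ResidueField O))
    (hT : ∀ t ∈ T, residue O t ∈ K) : ∀ a ∈ fracSub T, residue O a ∈ K := by
  rintro a ⟨f, g, hf, hg, hug, h⟩
  have hg0 : residue O g ≠ 0 := (IsUnit.map (residue O) hug).ne_zero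
  have : residue O a = residue O f / residue O g := by
    rw [eq_div_iff hg0, ← map_mul, h]
  rw [this]
  exact K.div_mem (hT f hf) (hT g hg)

/-- The good subrings. -/
structure Good (p : ℕ) (K : Subfield (ResidueField O)) (S : Subring O) : Prop where
  inv : ∀ s ∈ S, IsUnit s → ∃ t ∈ S, s * t = 1
  sat : IsSat p S
  res : ∀ s ∈ S, residue O s ∈ K

lemma good_fracSub {p : ℕ} {T : Subring O} (hT : IsSat p T) (K : Subfield (ResidueField O))
    (hr : ∀ t ∈ T, residue O t ∈ K) : Good p K (fracSub T) :=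
  ⟨fun _ hs => exists_inv_fracSub T hs, isSat_fracSub hT, residue_fracSub K hr⟩

lemma isSat_range_intCast (p : ℕ) (hp : p.Prime) (hpm : (p : O) ∈ maximalIdeal O) :
    IsSat p (Int.castRingHom O).range := by
  rintro _ ⟨z, rfl⟩ hz
  have hz0 : z ≠ 0 := by rintro rfl; simp at hz
  obtain ⟨n, t, hpt, rfl⟩ := WfDvdMonoid.max_power_factor hz0
    (Nat.prime_iff_prime_int.1 hp).irreducible
  refine ⟨n, (t : O), ⟨t, rfl⟩, ?_, by simp⟩
  obtain ⟨a, b, hab⟩ : IsCoprime (p : ℤ) t :=
    ((Nat.prime_iff_prime_int.1 hp).coprime_iff_not_dvd).2 hpt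
  have : (a : O) * (p : O) + (b : O) * (t : O) = 1 := by exact_mod_cast congrArg (Int.cast (R := O)) hab
  rcases IsLocalRing.isUnit_or_isUnit_of_add_one this with h | h
  · exact absurd (isUnit_of_mul_isUnit_right h) ((mem_maximalIdeal _).1 hpm)
  · exact isUnit_of_mul_isUnit_right h

variable {p : ℕ} {K : Subfield (ResidueField O)} {S : Subring O}

/-- A nonzero polynomial over a good subring is a power of `p` times a primitive one. -/
lemma Good.exists_primitive (hS : Good p K S) {h : S[X]} (hh : h ≠ 0) :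
    ∃ (n : ℕ) (h₁ : S[X]), h₁.natDegree ≤ h.natDegree ∧ (∃ i, IsUnit ((h₁.coeff i : S) : O)) ∧
      ∀ X : O, h.eval₂ S.subtype X = (p : O) ^ n * h₁.eval₂ S.subtype X := by
  classical
  have hne : ∀ i ∈ h.support, ((h.coeff i : S) : O) ≠ 0 := fun i hi h0 =>
    mem_support_iff.1 hi (Subtype.ext h0)
  choose! e t ht hu he using fun i (hi : i ∈ h.support) => hS.sat _ (h.coeff i).2 (hne i hi)
  obtain ⟨i₀, hi₀, hmin⟩ := h.support.exists_min_image e (support_nonempty.2 hh)
  let c : ℕ → S := fun i => if hi : i ∈ h.support then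
    ⟨(p : O) ^ (e i - e i₀) * t i, S.mul_mem (S.pow_mem (natCast_mem S p) _) (ht i hi)⟩ else 0
  let h₁ : S[X] := ∑ i ∈ h.support, monomial i (c i)
  have hc : ∀ i, h₁.coeff i = c i := by
    intro i
    simp only [h₁, finsetSum_coeff, coeff_monomial, Finset.sum_ite_eq']
    split_ifs with hi
    · rfl
    · simp only [c]
      rw [dif_neg hi]
  refine ⟨e i₀, h₁, ?_, ⟨i₀, ?_⟩, fun X => ?_⟩
  · refine natDegree_sum_le_of_forall_le _ _ fun i hi => ?_
    exact (natDegree_monomial_le _).trans (le_natDegree_of_mem_supp i hi)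
  · rw [hc]
    simp only [c, dif_pos hi₀, Nat.sub_self, pow_zero, one_mul]
    exact hu i₀ hi₀
  · rw [eval₂_finsetSum, Finset.mul_sum, eval₂_eq_sum, sum_def]
    refine Finset.sum_congr rfl fun i hi => ?_
    rw [eval₂_monomial, ← mul_assoc]
    congr 1
    simp only [c, dif_pos hi, Subring.subtype_apply]
    rw [← mul_assoc, ← pow_add, Nat.add_sub_cancel' (hmin i hi)]
    exact he i hi

/-- A primitive polynomial vanishing at `x` gives a monic one of no larger degree. -/
lemma Good.exists_monic (hS : Good p K S) (x : ResidueField O) {h : S[X]}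
    (hi : ∃ i, IsUnit ((h.coeff i : S) : O))
    (hx : h.eval₂ ((residue O).comp S.subtype) x = 0) :
    ∃ f : S[X], f.Monic ∧ f.natDegree ≤ h.natDegree ∧ f.eval₂ ((residue O).comp S.subtype) x = 0 := by
  classical
  let ρ := (residue O).comp S.subtype
  obtain ⟨i, hi⟩ := hi
  have hmap : h.map ρ ≠ 0 := fun h0 => by
    have := congrArg (fun q => coeff q i) h0
    simp only [coeff_map, coeff_zero] at this
    exact ((IsUnit.map (residue O) hi).ne_zero) this
  let j := (h.map ρ).natDegree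
  have hj : ρ (h.coeff j) ≠ 0 := by
    rw [← coeff_map]; exact leadingCoeff_ne_zero.2 hmap
  obtain ⟨v, hv, hv1⟩ := hS.inv _ (h.coeff j).2 ((residue_ne_zero_iff_isUnit _).1 hj)
  let u : S := ⟨v, hv⟩
  have hu : h.coeff j * u = 1 := Subtype.ext hv1
  let f : S[X] := ∑ k ∈ Finset.range (j + 1), monomial k (h.coeff k * u)
  have hfdeg : f.natDegree ≤ j := natDegree_sum_le_of_forall_le _ _ fun k hk =>
    (natDegree_monomial_le _).trans (Nat.lt_succ_iff.1 (Finset.mem_range.1 hk))
  refine ⟨f, monic_of_natDegree_le_of_coeff_eq_one j hfdeg ?_,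
    hfdeg.trans natDegree_map_le, ?_⟩
  · simp only [f, finsetSum_coeff, coeff_monomial, Finset.sum_ite_eq', Finset.mem_range,
      Nat.lt_succ_self, if_true, hu]
  · have h2 : (h.map ρ).eval x = 0 := by rw [eval_map]; exact hx
    rw [eval_eq_sum_range] at h2
    rw [eval₂_finsetSum]
    calc ∑ k ∈ Finset.range (j + 1), (monomial k (h.coeff k * u)).eval₂ ρ x
        = (∑ k ∈ Finset.range (j + 1), (h.map ρ).coeff k * x ^ k) * ρ u := by
          rw [Finset.sum_mul]
          refine Finset.sum_congr rfl fun k _ => ?_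
          rw [eval₂_monomial, coeff_map, map_mul]; ring
      _ = 0 := by rw [h2, zero_mul]

/-- Adjoining a lift of an element of `K`. -/
lemma Good.exists_extension (hS : Good p K S)
    (hroot : ∀ (f : O[X]), f.Monic → ∀ x : ResidueField O, f.eval₂ (residue O) x = 0 →
      ∃ X : O, f.eval X = 0 ∧ residue O X = x)
    (x : ResidueField O) (hxK : x ∈ K) :
    ∃ S' : Subring O, Good p K S' ∧ S ≤ S' ∧ ∃ s ∈ S', residue O s = x := by
  classical
  let ρ := (residue O).comp S.subtype
  let V : Set S[X] := {f | f.Monic ∧ f.eval₂ ρ x = 0}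
  obtain ⟨X₀, hX₀, hkey⟩ : ∃ X₀ : O, residue O X₀ = x ∧ ∀ h : S[X], h.eval₂ S.subtype X₀ ≠ 0 →
      ∃ (n : ℕ) (h₁ : S[X]), IsUnit (h₁.eval₂ S.subtype X₀) ∧
        h.eval₂ S.subtype X₀ = (p : O) ^ n * h₁.eval₂ S.subtype X₀ := by
    have hunit : ∀ (X₀ : O), residue O X₀ = x → ∀ h₁ : S[X], h₁.eval₂ ρ x ≠ 0 →
        IsUnit (h₁.eval₂ S.subtype X₀) := by
      intro X₀ hX₀ h₁ hne
      rw [← residue_ne_zero_iff_isUnit, hom_eval₂, hX₀]
      exact hne
    by_cases hV : V.Nonempty
    · obtain ⟨f, ⟨hfm, hfx⟩, hfmin⟩ := WellFounded.has_min (InvImage.wf natDegree wellFounded_lt) V hV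
      obtain ⟨X₀, hX₀, hX₀x⟩ := hroot (f.map S.subtype) (hfm.map _) x (by rw [eval₂_map]; exact hfx)
      refine ⟨X₀, hX₀x, fun h hne => ?_⟩
      have heval : h.eval₂ S.subtype X₀ = (h %ₘ f).eval₂ S.subtype X₀ := by
        conv_lhs => rw [← modByMonic_add_div h f]
        rw [eval₂_add, eval₂_mul, ← eval_map S.subtype X₀ (p := f), hX₀, zero_mul, add_zero]
      have hne' : h %ₘ f ≠ 0 := fun h0 => hne (by rw [heval, h0, eval₂_zero])
      obtain ⟨n, h₁, hdeg, hi, h1⟩ := hS.exists_primitive hne'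
      refine ⟨n, h₁, hunit X₀ hX₀x h₁ fun h0 => ?_, heval.trans (h1 X₀)⟩
      obtain ⟨g, hgm, hgd, hgx⟩ := hS.exists_monic x hi h0
      refine hfmin g ⟨hgm, hgx⟩ ?_
      show g.natDegree < f.natDegree
      refine lt_of_le_of_lt (hgd.trans hdeg) (natDegree_modByMonic_lt h hfm ?_)
      rintro rfl
      simp [ρ] at hfx
    · obtain ⟨X₀, hX₀⟩ := residue_surjective x
      refine ⟨X₀, hX₀, fun h hne => ?_⟩
      have hne' : h ≠ 0 := fun h0 => hne (by rw [h0, eval₂_zero])
      obtain ⟨n, h₁, -, hi, h1⟩ := hS.exists_primitive hne'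
      refine ⟨n, h₁, hunit X₀ hX₀ h₁ fun h0 => hV ?_, h1 X₀⟩
      obtain ⟨g, hgm, -, hgx⟩ := hS.exists_monic x hi h0
      exact ⟨g, hgm, hgx⟩
  let T : Subring O := (eval₂RingHom S.subtype X₀).range
  refine ⟨fracSub T, good_fracSub ?_ K ?_, fun s hs => le_fracSub T ⟨C ⟨s, hs⟩, by simp⟩,
    X₀, le_fracSub T ⟨X, by simp⟩, hX₀⟩
  · rintro _ ⟨h, rfl⟩ hne
    obtain ⟨n, h₁, hu, h1⟩ := hkey h hne
    exact ⟨n, _, ⟨h₁, rfl⟩, hu, h1⟩
  · rintro _ ⟨h, rfl⟩
    rw [coe_eval₂RingHom, hom_eval₂, hX₀, eval₂_eq_sum, sum_def]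
    exact sum_mem fun i _ => K.mul_mem (hS.res _ (h.coeff i).2) (K.pow_mem hxK i)

/-- A good subring with full residue field. -/
lemma exists_good_surjective (p : ℕ) (hp : p.Prime) (hpm : (p : O) ∈ maximalIdeal O)
    (K : Subfield (ResidueField O))
    (hroot : ∀ (f : O[X]), f.Monic → ∀ x : ResidueField O, f.eval₂ (residue O) x = 0 →
      ∃ X : O, f.eval X = 0 ∧ residue O X = x) :
    ∃ S : Subring O, Good p K S ∧ ∀ x ∈ K, ∃ s ∈ S, residue O s = x := by
  classical
  let S₀ : Subring O := fracSub (Int.castRingHom O).range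
  have hS₀ : Good p K S₀ := good_fracSub (isSat_range_intCast p hp hpm) K (by
    rintro _ ⟨z, rfl⟩
    rw [eq_intCast, map_intCast]
    exact intCast_mem K z)
  obtain ⟨S, -, hS⟩ := zorn_le_nonempty₀ {S : Subring O | Good p K S} (fun c hc hchain y hy => by
    refine ⟨sSup c, ?_, fun z hz => le_sSup hz⟩
    have hdir := hchain.directedOn
    have hne : c.Nonempty := ⟨y, hy⟩
    constructor
    · intro s hs hu
      obtain ⟨S, hSc, hsS⟩ := (Subring.mem_sSup_of_directedOn hne hdir).1 hs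
      obtain ⟨t, ht, h1⟩ := (hc hSc).inv s hsS hu
      exact ⟨t, le_sSup hSc ht, h1⟩
    · intro s hs h0
      obtain ⟨S, hSc, hsS⟩ := (Subring.mem_sSup_of_directedOn hne hdir).1 hs
      obtain ⟨n, t, ht, hu, h1⟩ := (hc hSc).sat s hsS h0
      exact ⟨n, t, le_sSup hSc ht, hu, h1⟩
    · intro s hs
      obtain ⟨S, hSc, hsS⟩ := (Subring.mem_sSup_of_directedOn hne hdir).1 hs
      exact (hc hSc).res s hsS) S₀ hS₀
  refine ⟨S, hS.prop, fun x hx => ?_⟩
  obtain ⟨S', hS', hle, hxS'⟩ := Good.exists_extension hS.prop hroot x hx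
  rwa [hS.eq_of_le hS' hle]

end Sub

/-- A valuation ring of an algebraically closed field of characteristic zero with a prescribed
subfield of its residue field. -/
lemma exists_valuationRing (p : ℕ) (k : Type u) [Field k] [CharP k p] :
    ∃ (O : Type u) (_ : CommRing O) (_ : IsDomain O) (_ : IsLocalRing O) (_ : CharZero O)
      (ι : k →+* ResidueField O), (p : O) ∈ maximalIdeal O ∧
      ∀ (f : O[X]), f.Monic → ∀ x : ResidueField O, f.eval₂ (residue O) x = 0 →
        ∃ X : O, f.eval X = 0 ∧ residue O X = x := by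
  classical
  let P := MvPolynomial k ℤ
  let F := AlgebraicClosure (FractionRing P)
  let emb : P →+* F := (algebraMap (FractionRing P) F).comp (algebraMap P (FractionRing P))
  have hemb : Function.Injective emb :=
    (algebraMap (FractionRing P) F).injective.comp (IsFractionRing.injective P (FractionRing P))
  have : CharZero F := ⟨fun a b hab => by
    have := hemb (a₁ := (a : P)) (a₂ := (b : P)) (by simpa using hab)
    exact_mod_cast this⟩
  let ev : P →+* k := MvPolynomial.eval₂Hom (Int.castRingHom k) id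
  have hev : Function.Surjective ev := fun x => ⟨MvPolynomial.X x, MvPolynomial.eval₂Hom_X' _ _ x⟩
  have hq : (RingHom.ker ev).map emb.rangeRestrict ≠ ⊤ := fun h => by
    have h' := congrArg (Ideal.comap emb.rangeRestrict) h
    rw [Ideal.comap_map_of_surjective _ emb.rangeRestrict_surjective, Ideal.comap_top,
      Ideal.comap_bot_of_injective _ (fun a b hab => hemb (Subtype.ext_iff.1 hab)), sup_bot_eq] at h'
    exact RingHom.ker_ne_top ev h'
  obtain ⟨V, hV, hnu⟩ := Ideal.image_subset_nonunits_valuationSubring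
    ((RingHom.ker ev).map emb.rangeRestrict) hq
  let φ : P →+* V := emb.codRestrict V fun x => hV ⟨x, rfl⟩
  have hker : RingHom.ker ev ≤ RingHom.ker ((residue V).comp φ) := fun x hx => by
    rw [RingHom.mem_ker, RingHom.comp_apply, residue_eq_zero_iff]
    exact ValuationSubring.coe_mem_nonunits_iff.1
      (hnu ⟨_, Ideal.mem_map_of_mem _ hx, rfl⟩)
  let ι : k →+* ResidueField V := RingHom.liftOfSurjective ev hev ⟨_, hker⟩
  have : CharZero V := ⟨fun a b hab => Nat.cast_injective (R := F) (by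
    simpa using congrArg Subtype.val hab)⟩
  refine ⟨V, inferInstance, inferInstance, inferInstance, inferInstance, ι, ?_, ?_⟩
  · rw [← residue_eq_zero_iff, map_natCast, ← map_natCast ι, CharP.cast_eq_zero, map_zero]
  · intro f hf x hx
    let g : V →+* F := V.subtype
    have hsp : (f.map g).Splits := IsAlgClosed.splits _
    have hint : ∀ r ∈ (f.map g).roots, r ∈ V := by
      intro r hr
      have hr0 : (f.map g).eval r = 0 := (mem_roots'.1 hr).2
      have hI : IsIntegral V r := ⟨f, hf, by rw [← eval_map]; exact hr0⟩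
      obtain ⟨y, hy⟩ := IsIntegrallyClosed.algebraMap_eq_of_integral hI
      exact hy ▸ y.2
    have hprod : f = (((f.map g).roots.attach).map fun r => X - C (⟨r.1, hint r.1 r.2⟩ : V)).prod := by
      refine map_injective g Subtype.val_injective ?_
      rw [Polynomial.map_multiset_prod, Multiset.map_map]
      conv_lhs => rw [hsp.eq_prod_roots_of_monic (hf.map g), ← Multiset.attach_map_val (f.map g).roots,
        Multiset.map_map]
      congr 1
      refine Multiset.map_congr rfl fun r _ => ?_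
      simp [g]
    rw [hprod, eval₂_multiset_prod, Multiset.map_map, Multiset.prod_eq_zero_iff] at hx
    obtain ⟨r, hr, h0⟩ := Multiset.mem_map.1 hx
    simp only [Function.comp_apply, eval₂_sub, eval₂_X, eval₂_C, sub_eq_zero] at h0
    refine ⟨⟨r.1, hint r.1 r.2⟩, (congrArg (eval (⟨r.1, hint r.1 r.2⟩ : V)) hprod).trans ?_, h0.symm⟩
    rw [eval_multiset_prod, Multiset.map_map, Multiset.prod_eq_zero_iff]
    exact Multiset.mem_map.2 ⟨r, hr, by simp⟩

/-- Cohen rings exist. -/
theorem exists_isCohenRing (p : ℕ) [Fact p.Prime] (k : Type u) [Field k] [CharP k p] :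
    ∃ (Λ : Type u) (_ : CommRing Λ) (_ : IsLocalRing Λ), CAlg.IsCohenRing Λ ∧
      Nonempty (ResidueField Λ ≃+* k) := by
  classical
  have hp : p.Prime := Fact.out
  obtain ⟨O, _, _, _, _, ι, hpm, hroot⟩ := exists_valuationRing p k
  obtain ⟨S, hS, hsurj⟩ := exists_good_surjective p hp hpm ι.fieldRange hroot
  have hunit : ∀ s : S, IsUnit s ↔ IsUnit (s : O) := fun s => ⟨fun h => h.map S.subtype, fun h => by
    obtain ⟨t, ht, h1⟩ := hS.inv _ s.2 h
    exact IsUnit.of_mul_eq_one ⟨t, ht⟩ (Subtype.ext h1)⟩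
  have : IsLocalRing S := .of_nonunits_add fun a b ha hb => by
    rw [mem_nonunits_iff, hunit, ← mem_nonunits_iff] at ha hb ⊢
    exact IsLocalRing.nonunits_add ha hb
  have hpS : (p : S) ∈ maximalIdeal S := by
    rw [mem_maximalIdeal, mem_nonunits_iff, hunit]
    simpa using hpm
  have hdec : ∀ x : S, x ≠ 0 → ∃ n : ℕ, Associated ((p : S) ^ n) x := by
    intro x hx
    obtain ⟨n, t, ht, hu, h1⟩ := hS.sat _ x.2 (fun h => hx (Subtype.ext h))
    exact ⟨n, ((hunit ⟨t, ht⟩).2 hu).unit, Subtype.ext (by simpa using h1.symm)⟩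
  have hirr : Irreducible (p : S) := by
    have hp0 : (p : S) ≠ 0 := fun h => hp.ne_zero (by exact_mod_cast congrArg Subtype.val h)
    refine ⟨(mem_maximalIdeal _).1 hpS, fun a b hab => ?_⟩
    by_contra hne
    push Not at hne
    have ha0 : a ≠ 0 := fun h => hp0 (by rw [hab, h, zero_mul])
    have hb0 : b ≠ 0 := fun h => hp0 (by rw [hab, h, mul_zero])
    obtain ⟨na, ua, hua⟩ := hdec a ha0
    obtain ⟨nb, ub, hub⟩ := hdec b hb0
    rcases Nat.eq_zero_or_pos na with rfl | hna
    · exact hne.1 ⟨ua, by rw [← hua, pow_zero, one_mul]⟩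
    rcases Nat.eq_zero_or_pos nb with rfl | hnb
    · exact hne.2 ⟨ub, by rw [← hub, pow_zero, one_mul]⟩
    obtain ⟨na, rfl⟩ := Nat.exists_eq_succ_of_ne_zero hna.ne'
    obtain ⟨nb, rfl⟩ := Nat.exists_eq_succ_of_ne_zero hnb.ne'
    have h2 : (p : S) * 1 = (p : S) * ((p : S) * ((p : S) ^ na * ua * ((p : S) ^ nb * ub))) := by
      calc (p : S) * 1 = ((p : S) ^ (na + 1) * ua) * ((p : S) ^ (nb + 1) * ub) := by
            rw [mul_one, hua, hub]; exact hab
        _ = _ := by ring
    exact (mem_maximalIdeal _).1 hpS (IsUnit.of_mul_eq_one _ (mul_left_cancel₀ hp0 h2).symm)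
  have hdvr : IsDiscreteValuationRing S :=
    .ofHasUnitMulPowIrreducibleFactorization ⟨p, hirr, fun {x} hx => hdec x hx⟩
  have hmS : maximalIdeal S = Ideal.span {(p : S)} :=
    (IsDiscreteValuationRing.irreducible_iff_uniformizer _).1 hirr
  let Λ := AdicCompletion (maximalIdeal S) S
  have hmΛ : maximalIdeal Λ = Ideal.span {(p : Λ)} := by
    refine AdicCompletion.maximalIdeal_eq_map.trans ((congrArg (Ideal.map _) hmS).trans ?_)
    rw [Ideal.map_span, Set.image_singleton, map_natCast]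
  have hinj : Function.Injective (algebraMap S Λ) := AdicCompletion.of_injective (maximalIdeal S) S
  have hpow0 : ∀ n : ℕ, (p : Λ) ^ n ≠ 0 := fun n h => by
    rw [← map_natCast (algebraMap S Λ), ← map_pow, ← map_zero (algebraMap S Λ)] at h
    exact pow_ne_zero n hirr.ne_zero (hinj h)
  have hdecΛ : ∀ x : Λ, x ≠ 0 → ∃ n : ℕ, Associated ((p : Λ) ^ n) x := by
    intro x hx
    have hex : ∃ n, x ∉ maximalIdeal Λ ^ n := by
      by_contra hall
      push Not at hall
      exact hx (IsHausdorff.haus (I := maximalIdeal Λ) inferInstance x fun n => by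
        rw [SModEq.zero, smul_eq_mul, Ideal.mul_top]; exact hall n)
    obtain ⟨n, hn, hmin⟩ : ∃ n, x ∉ maximalIdeal Λ ^ n ∧ ∀ m < n, x ∈ maximalIdeal Λ ^ m :=
      ⟨Nat.find hex, Nat.find_spec hex, fun m hm => not_not.1 (Nat.find_min hex hm)⟩
    have hn0 : n ≠ 0 := fun h => hn (by simp [h])
    obtain ⟨m, rfl⟩ := Nat.exists_eq_succ_of_ne_zero hn0
    have hxm := hmin m (Nat.lt_succ_self m)
    rw [hmΛ, Ideal.span_singleton_pow, Ideal.mem_span_singleton] at hxm
    obtain ⟨u, rfl⟩ := hxm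
    have hu : IsUnit u := by
      by_contra hu
      refine hn ?_
      rw [pow_succ]
      exact Ideal.mul_mem_mul (Ideal.pow_mem_pow (hmΛ ▸ Ideal.mem_span_singleton_self _) m)
        ((mem_maximalIdeal _).2 hu)
    exact ⟨m, hu.unit, by rw [IsUnit.unit_spec]⟩
  have : Nontrivial Λ := inferInstance
  have : NoZeroDivisors Λ := ⟨fun {a b} hab => by
    by_contra h
    push Not at h
    obtain ⟨n, u, rfl⟩ := hdecΛ a h.1
    obtain ⟨m, v, rfl⟩ := hdecΛ b h.2
    refine hpow0 (n + m) ?_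
    have : (p : Λ) ^ (n + m) * (u * v : Λ) = 0 := by rw [← hab, pow_add]; ring
    exact ((u * v).isUnit.mul_left_eq_zero).1 (by simpa using this)⟩
  have : IsDomain Λ := NoZeroDivisors.to_isDomain Λ
  have hpirr : Irreducible (p : Λ) := by
    refine ⟨fun hu => (mem_maximalIdeal _).1 (hmΛ ▸ Ideal.mem_span_singleton_self _) hu, fun a b hab => ?_⟩
    by_contra h
    push Not at h
    have ha : a ∈ Ideal.span {(p : Λ)} := hmΛ ▸ (mem_maximalIdeal _).2 h.1
    have hb : b ∈ Ideal.span {(p : Λ)} := hmΛ ▸ (mem_maximalIdeal _).2 h.2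
    obtain ⟨a, rfl⟩ := Ideal.mem_span_singleton.1 ha
    obtain ⟨b, rfl⟩ := Ideal.mem_span_singleton.1 hb
    have h2 : (p : Λ) * 1 = (p : Λ) * ((p : Λ) * (a * b)) := by
      conv_lhs => rw [mul_one, hab]
      ring
    exact (mem_maximalIdeal _).1 (hmΛ ▸ Ideal.mem_span_singleton_self _)
      (IsUnit.of_mul_eq_one _ (mul_left_cancel₀ (by simpa using hpow0 1) h2).symm)
  have hdvrΛ : IsDiscreteValuationRing Λ :=
    .ofHasUnitMulPowIrreducibleFactorization ⟨p, hpirr, fun {x} hx => hdecΛ x hx⟩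
  refine ⟨Λ, inferInstance, inferInstance, ⟨inferInstance, hdvrΛ, inferInstance, p, hp, hmΛ⟩, ?_⟩
  -- residue fields
  let ρ : S →+* k := RingHom.comp
    (RingEquiv.ofBijective ι.rangeRestrictField ι.rangeRestrictField_bijective).symm.toRingHom
    (((residue O).comp S.subtype).codRestrict ι.fieldRange fun s => hS.res _ s.2)
  have hρ : ∀ s : S, ι (ρ s) = residue O (s : O) := fun s => by
    have := (RingEquiv.ofBijective ι.rangeRestrictField ι.rangeRestrictField_bijective).apply_symm_apply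
      ((((residue O).comp S.subtype).codRestrict ι.fieldRange fun s => hS.res _ s.2) s)
    exact congrArg Subtype.val this
  have hρs : Function.Surjective ρ := fun x => by
    obtain ⟨s, hs, hsx⟩ := hsurj (ι x) ⟨x, rfl⟩
    exact ⟨⟨s, hs⟩, ι.injective (by rw [hρ, hsx])⟩
  have hρl : IsLocalHom ρ := ⟨fun s hs => by
    rw [hunit, ← residue_ne_zero_iff_isUnit, ← hρ]
    exact fun h => hs.ne_zero (ι.injective (by rw [h, map_zero]))⟩
  let ρbar : ResidueField S →+* k := ResidueField.lift ρ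
  have hρbar : Function.Bijective ρbar := ⟨ρbar.injective, fun x => by
    obtain ⟨s, rfl⟩ := hρs x
    exact ⟨residue S s, ResidueField.lift_residue_apply ρ s⟩⟩
  exact ⟨(RingEquiv.ofBijective _ (AdicCompletion.residueField_map_bijective (R := S))).symm.trans
    (RingEquiv.ofBijective ρbar hρbar)⟩

end Groth.Agent.CohenLib
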